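import Groth.Agent.DCohShriek.DualModule
import Groth.Agent.HomBC.Affine
import Groth.Agent.PerfGen.PnGen
import Groth.Agent.ProjCech.Main
import Groth.Agent.AVMukai.Shift

/-!
Criteria for an object over an affine base to be a shift of the structure sheaf.
-/

set_option autoImplicit false
set_option backward.isDefEq.respectTransparency false
set_option backward.isDefEq.respectTransparency.types false
set_option linter.style.haveILetI false
set_option linter.unusedSectionVars false

noncomputable section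

universe u

open CategoryTheory Limits Pretriangulated AlgebraicGeometry Opposite

attribute [local instance] HasDerivedCategory.standard

namespace Groth.Agent.PnDual

open Groth.Agent.PerfGen

section Rank

variable {R : Type u} [CommRing R] {C : Type*} [Category* C] [Preadditive C] [Linear R C]

/-- if `End A` is free of rank one it consists of scalars -/
theorem bijective_smul_id {A : C} (e : (A ⟶ A) ≃ₗ[R] R) : Function.Bijective fun r : R => r • 𝟙 A := by
  let v := e.symm 1
  have hev : e v = 1 := e.apply_symm_apply 1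
  have hu : e (𝟙 A) * e (v ≫ v) = 1 := by
    have hid : 𝟙 A = e (𝟙 A) • v := e.injective (by rw [map_smul, hev, smul_eq_mul, mul_one])
    calc e (𝟙 A) * e (v ≫ v) = e (e (𝟙 A) • (v ≫ v)) := by rw [map_smul, smul_eq_mul]
      _ = e (v ≫ 𝟙 A) := by conv_rhs => rw [hid, Linear.comp_smul]
      _ = 1 := by rw [Category.comp_id, hev]
  have he : ∀ r : R, e (r • 𝟙 A) = r * e (𝟙 A) := fun r => by rw [map_smul, smul_eq_mul]
  refine ⟨fun r s hrs => ?_, fun x => ⟨e x * e (v ≫ v), e.injective ?_⟩⟩
  · have := congrArg (fun y => e y * e (v ≫ v)) hrs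
    simpa only [he, mul_assoc, hu, mul_one] using this
  · show e ((e x * e (v ≫ v)) • 𝟙 A) = e x
    rw [he, mul_assoc, mul_comm (e (v ≫ v)), hu, mul_one]

end Rank

section Spec

variable {R : Type u} [CommRing R]

local notation "S₀" => Spec (CommRingCat.of R)

/-- the structure sheaf of an affine scheme, in degree zero -/
abbrev Ob (X : Scheme.{u}) : DCoh.D X := DCoh.inD X (Coh.structureModule X)

/-- endomorphisms of the structure sheaf of `Spec R` -/
theorem bijective_smul_id_spec : Function.Bijective fun r : R => r • 𝟙 (Ob S₀) := by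
  have hO : Function.Bijective fun r : R => r • 𝟙 (Coh.structureModule S₀) := by
    have hg : Function.Bijective (Coh.toGlobal (S₀ ↘ S₀)) := by
      rw [show S₀ ↘ S₀ = 𝟙 _ by rw [specOverSpec_over]; exact Spec.map_id (CommRingCat.of R)]
      exact ConcreteCategory.bijective_of_isIso (Scheme.ΓSpecIso (CommRingCat.of R)).inv
    have happ : ∀ (r : R) (U : (S₀).Opens), (r • 𝟙 (Coh.structureModule S₀)).app U (1 : Γ(S₀, U)) =
        (Coh.structureModule S₀).presheaf.map (homOfLE le_top).op (Coh.toGlobal (S₀ ↘ S₀) r) := fun r U => by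
      rw [KLin.smul_app_apply]
      exact @mul_one Γ(S₀, U) _ _
    refine ⟨fun r s hrs => hg.1 ?_, fun φ => ?_⟩
    · have := congrArg (fun ψ => ψ.app ⊤ (1 : Γ(S₀, ⊤))) hrs
      have h2 : ∀ z : Γ(S₀, ⊤), (Coh.structureModule S₀).presheaf.map (homOfLE (le_top : (⊤ : (S₀).Opens) ≤ ⊤)).op z = z :=
        fun z => by
          rw [Subsingleton.elim (homOfLE (le_top : (⊤ : (S₀).Opens) ≤ ⊤)) (𝟙 _), op_id, CategoryTheory.Functor.map_id]
          rfl
      exact (h2 _).symm.trans (((happ r ⊤).symm.trans (this.trans (happ s ⊤))).trans (h2 _))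
    · obtain ⟨r, hr⟩ := hg.2 (φ.app ⊤ (1 : Γ(S₀, ⊤)))
      refine ⟨r, (SheafOfModules.unitHomEquiv _).injective (Subtype.ext (funext fun U => ?_))⟩
      refine ((happ r U.unop).trans ?_ : _)
      rw [hr]
      have h1 := ConcreteCategory.congr_hom (φ.mapPresheaf.naturality (homOfLE (le_top : U.unop ≤ ⊤)).op) (1 : Γ(S₀, ⊤))
      refine h1.symm.trans ?_
      exact congrArg (φ.app U.unop) (map_one ((S₀).presheaf.map (homOfLE (le_top : U.unop ≤ ⊤)).op).hom)
  have h := ((Functor.FullyFaithful.ofFullyFaithful (DerivedCategory.singleFunctor (S₀).Modules 0)).map_bijective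
    (Coh.structureModule S₀) (Coh.structureModule S₀)).comp hO
  convert h using 1
  funext r
  show r • 𝟙 _ = (DerivedCategory.singleFunctor _ 0).map (r • 𝟙 _)
  rw [Functor.map_smul, CategoryTheory.Functor.map_id]

/-- the same for shifts -/
theorem bijective_smul_id_spec_shift (m : ℤ) : Function.Bijective fun r : R => r • 𝟙 ((Ob S₀)⟦m⟧) := by
  have h := ((Functor.FullyFaithful.ofFullyFaithful (shiftFunctor (DCoh.D S₀) m)).map_bijective
    (Ob S₀) (Ob S₀)).comp (bijective_smul_id_spec (R := R))
  convert h using 1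
  funext r
  show r • 𝟙 _ = (shiftFunctor _ m).map (r • 𝟙 _)
  rw [Functor.map_smul, CategoryTheory.Functor.map_id]

/-- **recognising a shift of the structure sheaf** -/
theorem isIso_of_smul_bijective {M : DCoh.D S₀} (hM : DCoh.IsQCohD M) (m : ℤ) (y : (Ob S₀)⟦m⟧ ⟶ M)
    (h0 : ∀ k : ℤ, k ≠ m → Subsingleton ((Ob S₀)⟦k⟧ ⟶ M)) (hy : Function.Bijective fun r : R => r • y) :
    IsIso y := by
  have hO : DCoh.IsQCohD (Ob S₀) := isQCohD_of_isPerfect (PerfPush.isPerfect_unit _)
  obtain ⟨N, b, d, hN⟩ := distinguished_cocone_triangle y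
  refine (Triangle.isZero₃_iff_isIso₁ _ hN).1 (gen_unit_affine S₀ N
    (isQCohD_obj₃ _ hN (isQCohD_shift hO m) hM) (hom_eq_zero_of_bijective hN fun k => ?_))
  by_cases hk : k = m
  · subst hk
    have h := hy
    rw [show (fun r : R => r • y) = (fun t : (Ob S₀)⟦k⟧ ⟶ (Ob S₀)⟦k⟧ => t ≫ y) ∘ fun r : R => r • 𝟙 _ from
      funext fun r => by simp] at h
    exact (Function.Bijective.of_comp_iff _ (bijective_smul_id_spec_shift k)).1 h
  · haveI := h0 k hk
    haveI := HomBC.subsingleton_unit S₀ hk
    exact ⟨fun _ _ _ => Subsingleton.elim _ _, fun z => ⟨0, Subsingleton.elim _ _⟩⟩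

/-- an object without sections in any degree vanishes -/
theorem isZero_of_sections {M : DCoh.D S₀} (hM : DCoh.IsQCohD M)
    (h : ∀ k : ℤ, Subsingleton ((Ob S₀)⟦k⟧ ⟶ M)) : IsZero M :=
  gen_unit_affine S₀ M hM fun k g => (h k).elim g 0

end Spec

end Groth.Agent.PnDual
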