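import Groth.Agent.PnDual.Basic
import Groth.Agent.SerrePn.Twists
import Groth.Agent.PnReg.Ring
import Groth.Agent.TwistPairing.Main

/-!
**The right adjoint of `Rf_*` for projective space: `a O = O(-n-1)[n]`.**
-/

set_option autoImplicit false
set_option backward.isDefEq.respectTransparency false
set_option backward.isDefEq.respectTransparency.types false
set_option linter.style.haveILetI false
set_option linter.unusedSectionVars false
set_option maxHeartbeats 1000000

noncomputable section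

universe u

open CategoryTheory Limits Pretriangulated AlgebraicGeometry Opposite

attribute [local instance] HasDerivedCategory.standard

namespace Groth.Agent.PnDual

open Groth.Agent.PerfGen Groth.Agent.DCohShriek

local instance hasExtModules (X : Scheme.{u}) : HasExt.{u} (SheafOfModules.{u} X.ringCatSheaf) :=
  inferInstanceAs (HasExt.{u} X.Modules)

section General

variable {X : Scheme.{u}}

/-- maps between shifts reduce to one shift -/
lemma subsingleton_shift {A B : DCoh.D X} (k m : ℤ) (h : Subsingleton (A ⟶ B⟦m - k⟧)) :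
    Subsingleton (A⟦k⟧ ⟶ B⟦m⟧) := by
  have h1 : Subsingleton (A⟦k⟧ ⟶ (shiftFunctor (DCoh.D X) (m - k) ⋙ shiftFunctor (DCoh.D X) k).obj B) :=
    ((Functor.FullyFaithful.ofFullyFaithful (shiftFunctor (DCoh.D X) k)).homEquiv).symm.subsingleton
  exact ((Iso.refl _).homCongr ((shiftFunctorAdd' (DCoh.D X) (m - k) k m (by omega)).app B)).subsingleton

/-- no maps into negative shifts -/
lemma subsingleton_neg (M F : X.Modules) (j : ℤ) (hj : j < 0) :
    Subsingleton (DCoh.inD X M ⟶ (DCoh.inD X F)⟦j⟧) := by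
  haveI : ((DCoh.inD X F)⟦j⟧).IsGE (-j) :=
    DerivedCategory.TStructure.t.isGE_shift (DCoh.inD X F) 0 j (-j) (by omega)
  refine ⟨fun x y => ?_⟩
  rw [← sub_eq_zero]
  exact DerivedCategory.TStructure.t.zero (x - y) 0 (-j) (by omega)

/-- `Hom(O, F[j]) = 0` from vanishing cohomology -/
lemma subsingleton_unit_to (F : X.Modules) (j : ℤ) (h : ∀ p : ℕ, (p : ℤ) = j → Subsingleton (Coh.HH X F p)) :
    Subsingleton (Ob X ⟶ (DCoh.inD X F)⟦j⟧) := by
  rcases lt_or_ge j 0 with hj | hj
  · exact subsingleton_neg _ _ _ hj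
  obtain ⟨p, rfl⟩ := Int.eq_ofNat_of_zero_le hj
  haveI := h p rfl
  exact (hhHomEquiv F p).symm.toEquiv.subsingleton

/-- an isomorphism of modules on cohomology, linearly -/
lemma nonempty_hh_iso (R : Type u) [CommRing R] [X.Over (Spec (CommRingCat.of R))] {F G : X.Modules} (e : F ≅ G)
    (p : ℕ) : Nonempty (Coh.HH X F p ≃ₗ[R] Coh.HH X G p) :=
  ⟨LinearEquiv.ofLinearMap (CohFinite.hhMap R e.hom p) (CohFinite.hhMap R e.inv p)
    (LinearMap.ext fun x => by
      rw [LinearMap.comp_apply, ← CohFinite.hhMap_comp, e.inv_hom_id, CohFinite.hhMap_id, LinearMap.id_apply])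
    (LinearMap.ext fun x => by
      rw [LinearMap.comp_apply, ← CohFinite.hhMap_comp, e.hom_inv_id, CohFinite.hhMap_id, LinearMap.id_apply])⟩

end General

variable (n : ℕ) (R : Type u) [CommRing R]

local notation "PP" => CohB1.ProjSpace n R
local notation "S₀" => Spec (CommRingCat.of R)

/-- the canonical twist -/
abbrev wTw : (PP).Modules := Twist.twistProjSpace n R (-((n : ℤ) + 1))

/-- constants are the polynomials of degree zero -/
lemma nonempty_homog_zero :
    Nonempty (↥(MvPolynomial.homogeneousSubmodule (Fin (n + 1)) R 0) ≃ₗ[R] R) := by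
  let l : R →ₗ[R] ↥(MvPolynomial.homogeneousSubmodule (Fin (n + 1)) R 0) :=
    { toFun := fun r => ⟨MvPolynomial.C r, MvPolynomial.isHomogeneous_C _ r⟩
      map_add' := fun r s => Subtype.ext (map_add _ _ _)
      map_smul' := fun r s => Subtype.ext (by simp [MvPolynomial.smul_eq_C_mul]) }
  refine ⟨(LinearEquiv.ofBijective l ⟨fun r s h => MvPolynomial.C_injective _ _ (congrArg Subtype.val h),
    fun P => ⟨P.1.coeff 0, Subtype.ext ?_⟩⟩).symm⟩
  show MvPolynomial.C (P.1.coeff 0) = P.1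
  ext m
  rw [MvPolynomial.coeff_C]
  by_cases hm : 0 = m
  · subst hm; simp
  · rw [if_neg hm]
    refine (((MvPolynomial.mem_homogeneousSubmodule _ _).1 P.2).coeff_eq_zero ?_).symm
    intro h
    exact hm ((Finsupp.degree_eq_zero_iff m).1 h).symm

/-- cohomology of the negative twists in the window, and of `O`, `ω` -/
lemma subsingleton_unit_struct (j : ℤ) (hj : j ≠ 0) :
    Subsingleton (Ob PP ⟶ (Ob PP)⟦j⟧) :=
  subsingleton_unit_to _ j fun p hp => ProjCech.structureModule_vanish n R p (by omega)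

lemma subsingleton_unit_w (j : ℤ) (hj : j ≠ n) :
    Subsingleton (Ob PP ⟶ (DCoh.inD PP (wTw n R))⟦j⟧) :=
  subsingleton_unit_to _ j fun p hp => ProjCech.twist_vanish (R := R) n _ p (fun h => by omega) (fun h => by omega)

lemma subsingleton_unit_window (d : ℕ) (hd : 1 ≤ d) (hdn : d ≤ n) (j : ℤ) :
    Subsingleton (Ob PP ⟶ (DCoh.inD PP (Twist.twistProjSpace n R (-(d : ℤ))))⟦j⟧) :=
  subsingleton_unit_to _ j fun p _ => ProjCech.twist_vanish (R := R) n _ p (fun h => by omega) (fun h => by omega)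

lemma subsingleton_window_w (d : ℕ) (hd : 1 ≤ d) (hdn : d ≤ n) (j : ℤ) :
    Subsingleton (DCoh.inD PP (Twist.twistProjSpace n R (-(d : ℤ))) ⟶ (DCoh.inD PP (wTw n R))⟦j⟧) := by
  rcases lt_or_ge j 0 with hj | hj
  · exact subsingleton_neg _ _ _ hj
  obtain ⟨p, rfl⟩ := Int.eq_ofNat_of_zero_le hj
  obtain ⟨θ⟩ := PnReg.exists_eta_pow (R := R) (n := n) (-(d : ℤ))
  obtain ⟨θ'⟩ := PnReg.exists_eta_pow (R := R) (n := n) (d : ℤ)
  rw [neg_neg] at θ
  obtain ⟨e⟩ := PnReg.nonempty_twist_twist (R := R) (n := n) (-((n : ℤ) + 1)) (d : ℤ) (-((n : ℤ) + 1) + d) rfl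
  have hv : ∀ q, Subsingleton (Coh.HH PP (CohB1.tensorMod (wTw n R) (Twist.twistProjSpace n R (d : ℤ))) q) :=
    fun q => CohQC.hh_subsingleton_of_iso e.symm _
      (ProjCech.twist_vanish (R := R) n _ q (fun h => by omega) (fun h => by omega))
  suffices h : Subsingleton (Abelian.Ext (Twist.twistProjSpace n R (-(d : ℤ))) (wTw n R) p) from
    Abelian.Ext.homAddEquiv.symm.toEquiv.subsingleton
  rcases p with _ | p
  · obtain ⟨E⟩ := SerrePn.nonempty_homEquiv (A := R) (CohFinite.isInvertible_twist n R (d : ℤ)) θ' (wTw n R)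
    haveI := hv 0
    haveI : Subsingleton (Twist.twistProjSpace n R (-(d : ℤ)) ⟶ wTw n R) := E.toEquiv.subsingleton
    exact Abelian.Ext.homEquiv₀.subsingleton
  · exact SerrePn.subsingleton_ext_of_hh R (CohFinite.isInvertible_twist n R _) (CohFinite.isInvertible_twist n R _)
      θ θ' p _ (hv (p + 1))

/-- **`a O = O(-n-1)[n]`** -/
theorem nonempty_adjoint_unit [DCoh.HasRpush (CohB1.ProjSpace.toSpec n R)]
    {hf : DCoh.RpushPreservesQCoh (CohB1.ProjSpace.toSpec n R)}
    {a : DCoh.DQCoh S₀ ⥤ DCoh.DQCoh PP} (adj : DCoh.RpushQ (CohB1.ProjSpace.toSpec n R) hf ⊣ a)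
    (O : DCoh.DQCoh S₀) (eO : O.obj ≅ Ob S₀) :
    Nonempty ((a.obj O).obj ≅ (DCoh.inD PP (wTw n R))⟦(n : ℤ)⟧) := by
  let f := CohB1.ProjSpace.toSpec n R
  haveI := ProjMor.isProper_toSpec n R
  haveI : CompactSpace PP := QuasiCompact.compactSpace_of_compactSpace f
  haveI : QuasiSeparatedSpace PP := quasiSeparatedSpace_of_quasiSeparated f
  haveI : f.IsOver S₀ := isOver_spec f
  haveI := additive_rpush f
  haveI := linear_rpush (A := R) f
  haveI := KFlat.hasLpull f
  obtain ⟨adj'⟩ := DerPush.nonempty_lpull_adj_rpush f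
  obtain ⟨u₀⟩ := PerfPush.nonempty_lpull_unit f
  have hu : ∀ m : ℤ, Nonempty ((DCoh.Lpull f).obj ((Ob S₀)⟦m⟧) ≅ (Ob PP)⟦m⟧) := fun m => by
    obtain ⟨s⟩ := AVMukai.nonempty_lpull_shift f (Ob S₀) m
    exact ⟨s ≪≫ (shiftFunctor _ m).mapIso u₀⟩
  -- sections of direct images
  let σ : ∀ m : ℤ, (Ob S₀)⟦m⟧ ⟶ (DCoh.Rpush f).obj ((Ob PP)⟦m⟧) := fun m =>
    adj'.homEquiv _ _ (hu m).some.hom
  have hB : ∀ (m : ℤ) (E : DCoh.D PP), Function.Bijective fun x : (Ob PP)⟦m⟧ ⟶ E => σ m ≫ (DCoh.Rpush f).map x := by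
    intro m E
    have : (fun x : (Ob PP)⟦m⟧ ⟶ E => σ m ≫ (DCoh.Rpush f).map x) =
        adj'.homEquiv _ _ ∘ fun x => (hu m).some.hom ≫ x := funext fun x =>
      (Adjunction.homEquiv_naturality_right adj' _ _).symm
    rw [this]
    exact (Equiv.bijective _).comp (hu m).some.symm.homFromEquiv.bijective
  have hBs : ∀ (m : ℤ) (E : DCoh.D PP), Subsingleton ((Ob PP)⟦m⟧ ⟶ E) →
      Subsingleton ((Ob S₀)⟦m⟧ ⟶ (DCoh.Rpush f).obj E) := fun m E h =>
    (Equiv.ofBijective _ (hB m E)).symm.subsingleton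
  -- endomorphisms of the structure sheaf
  obtain ⟨z⟩ := GrT.nonempty_twist_zero_iso (𝒜 := CohB1.polyGrading n R)
  obtain ⟨z₁⟩ := ProjCech.zero_equiv (R := R) n 0
  obtain ⟨z₂⟩ := nonempty_homog_zero n R
  obtain ⟨z₀⟩ := nonempty_hh_iso R z 0
  let eEnd : (Ob PP ⟶ Ob PP) ≃ₗ[R] R :=
    ((Linear.homCongr R (Iso.refl _) ((shiftFunctorZero' (DCoh.D PP) ((0 : ℕ) : ℤ) Nat.cast_zero).app _)).symm.trans
      (hhHomLinearEquiv (A := R) (Coh.structureModule PP) 0).symm).trans ((z₀.symm.trans z₁).trans z₂)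
  have hEnd : ∀ m : ℤ, Function.Bijective fun r : R => r • 𝟙 ((Ob PP)⟦m⟧) := fun m => by
    have h := ((Functor.FullyFaithful.ofFullyFaithful (shiftFunctor (DCoh.D PP) m)).map_bijective
      (Ob PP) (Ob PP)).comp (bijective_smul_id eEnd)
    convert h using 1
    funext r
    show r • 𝟙 _ = (shiftFunctor _ m).map (r • 𝟙 _)
    rw [Functor.map_smul, CategoryTheory.Functor.map_id]
  have hσ : ∀ m, IsIso (σ m) := fun m => by
    refine isIso_of_smul_bijective (hf _ (isQCohD_shift (isQCohD_inD (QC.isQCoh_unit _)) m)) m (σ m)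
      (fun k hk => hBs k _ (subsingleton_shift k m (subsingleton_unit_struct n R _ (by omega)))) ?_
    have : (fun r : R => r • σ m) = (fun x => σ m ≫ (DCoh.Rpush f).map x) ∘ fun r : R => r • 𝟙 _ :=
      funext fun r => by simp [Functor.map_smul, Linear.comp_smul]
    rw [this]
    exact (hB m _).comp (hEnd m)
  -- the trace
  let w := DCoh.inD PP (wTw n R)
  let W := w⟦(n : ℤ)⟧
  have hwq : DCoh.IsQCohD w := isQCohD_inD (GrT.isQCoh_tilde (CohB1.polyGrading n R) (CohB1.polyGrading n R) _)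
  obtain ⟨t, -⟩ := TwistPairing.exists_trace_perfect (R := R) n
  let eW : ((Ob PP)⟦(0 : ℤ)⟧ ⟶ W) ≃ₗ[R] R :=
    ((Linear.homCongr R ((shiftFunctorZero (DCoh.D PP) ℤ).app _) (Iso.refl _)).trans
      (hhHomLinearEquiv (A := R) (wTw n R) n).symm).trans t
  let x₀ := eW.symm 1
  haveI : IsIso (σ 0 ≫ (DCoh.Rpush f).map x₀) := by
    refine isIso_of_smul_bijective (hf _ (isQCohD_shift hwq _)) 0 _
      (fun k hk => hBs k _ (subsingleton_shift k n (subsingleton_unit_w n R _ (by omega)))) ?_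
    have : (fun r : R => r • (σ 0 ≫ (DCoh.Rpush f).map x₀)) =
        (fun x => σ 0 ≫ (DCoh.Rpush f).map x) ∘ eW.symm := funext fun r => by
      have : eW.symm r = r • x₀ := by rw [← map_smul, smul_eq_mul, mul_one]
      simp [this, Functor.map_smul, Linear.comp_smul]
    rw [this]
    exact (hB 0 W).comp eW.symm.bijective
  let g : (DCoh.Rpush f).obj W ≅ O.obj :=
    (asIso (σ 0 ≫ (DCoh.Rpush f).map x₀)).symm ≪≫ (shiftFunctorZero (DCoh.D S₀) ℤ).app _ ≪≫ eO.symm
  have hWq : DCoh.IsQCohD W := isQCohD_shift hwq _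
  obtain ⟨φ, hφ⟩ := (tr_bijective adj hWq O).2 g.hom
  obtain ⟨N, b, c, hN⟩ := distinguished_cocone_triangle φ
  haveI : IsIso φ := by
    refine (Triangle.isZero₃_iff_isIso₁ _ hN).1 (isZero_of_hom_twists n R N
      (isQCohD_obj₃ _ hN hWq (a.obj O).property) fun d hd q g' => ?_)
    refine hom_eq_zero_of_bijective hN (fun m => ?_) q g'
    let E := DCoh.inD PP (PerfGen.tw n R (-(d : ℤ)))
    have hEq : DCoh.IsQCohD E := isQCohD_inD (GrT.isQCoh_tilde (CohB1.polyGrading n R) (CohB1.polyGrading n R) _)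
    suffices h : Function.Bijective fun x : E⟦m⟧ ⟶ W => (DCoh.Rpush f).map x ≫ g.hom by
      refine (Function.Bijective.of_comp_iff' (tr_bijective adj (isQCohD_shift hEq m) O) _).1 ?_
      convert h using 1
      funext x
      rw [Function.comp_apply, tr_comp, hφ]
    rcases Nat.eq_zero_or_pos d with rfl | hd'
    · let i : E⟦m⟧ ≅ (Ob PP)⟦m⟧ := (shiftFunctor _ m).mapIso
        ((DerivedCategory.singleFunctor _ 0).mapIso ((eqToIso (congrArg (PerfGen.tw n R) (by simp))) ≪≫ z))
      haveI := hσ m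
      have h0 : Function.Bijective fun y : (Ob PP)⟦m⟧ ⟶ W => (DCoh.Rpush f).map y ≫ g.hom := by
        have h1 : Function.Bijective fun y : (Ob PP)⟦m⟧ ⟶ W => σ m ≫ (DCoh.Rpush f).map y ≫ g.hom := by
          have := g.homToEquiv.bijective.comp (hB m W)
          convert this using 1
          funext y
          simp
        exact (Function.Bijective.of_comp_iff'
          (show Function.Bijective fun z => σ m ≫ z from (asIso (σ m)).symm.homFromEquiv.bijective) _).1 h1
      have h2 := (((DCoh.Rpush f).mapIso i).symm.homFromEquiv.bijective.comp h0).comp i.homFromEquiv.bijective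
      convert h2 using 1
      funext x
      simp
    · have hS : Subsingleton (E⟦m⟧ ⟶ W) := subsingleton_shift m n (subsingleton_window_w n R d hd' hd _)
      have hz : IsZero ((DCoh.Rpush f).obj (E⟦m⟧)) := isZero_of_sections (hf _ (isQCohD_shift hEq m))
        fun k => hBs k _ (subsingleton_shift k m (subsingleton_unit_window n R d hd' hd _))
      exact ⟨fun _ _ _ => hS.elim _ _, fun y => ⟨0, hz.eq_of_src _ _⟩⟩
  exact ⟨(asIso φ).symm⟩

end Groth.Agent.PnDual
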